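import Cfsg.Agent.H315.Cov.Lin
import Cfsg.Agent.S2100
import Cfsg.Agent.S2101
import Cfsg.Agent.S2102
import Cfsg.Agent.S2103
import Cfsg.Agent.S2104
import Cfsg.Agent.S2105
import Cfsg.Agent.S2106
import Cfsg.Agent.S2107
import Cfsg.Agent.S2108
import Cfsg.Agent.S2109
import Cfsg.Agent.S2110
import Cfsg.Agent.S2111
import Cfsg.Agent.S2112
import Cfsg.Agent.S2113
import Cfsg.Agent.S2114
import Cfsg.Agent.S2115

/-!
# Multipliers without `p`-part: exceptional groups of Lie type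
-/

set_option autoImplicit false

universe u v w

namespace Cfsg.Agent.H315.Cov

open Cfsg

variable {p : ℕ}

theorem noMul_g2 (hp : p.Prime) {F : Type v} [Field F] [Fintype F] (hF : 3 ≤ Fintype.card F)
    (h3 : ¬ (p = 3 ∧ Fintype.card F = 3)) (h4 : ¬ (p = 2 ∧ Fintype.card F = 4)) :
    NoMul.{u} p ↥(Lie.chevG2.group F) := by
  rcases Nat.lt_or_ge (Fintype.card F) 5 with h5 | h5
  · obtain h | h : Fintype.card F = 3 ∨ Fintype.card F = 4 := by omega
    · exact NoMul.of_cyclic (S2101.result h) (not_dvd_prime hp Nat.prime_three fun h1 => h3 ⟨h1, h⟩)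
    · exact NoMul.of_cyclic (S2102.result h) (not_dvd_prime hp Nat.prime_two fun h1 => h4 ⟨h1, h⟩)
  · exact NoMul.of_one hp (S2100.result h5)

theorem noMul_f4 (hp : p.Prime) {F : Type v} [Field F] [Fintype F] (h2 : ¬ (p = 2 ∧ Fintype.card F = 2)) :
    NoMul.{u} p ↥(Lie.chevF4.group F) := by
  rcases Nat.lt_or_ge (Fintype.card F) 3 with h5 | h5
  · have h1 : 1 < Fintype.card F := Fintype.one_lt_card
    have h : Fintype.card F = 2 := by omega
    exact NoMul.of_cyclic (S2104.result h) (not_dvd_prime hp Nat.prime_two fun h1 => h2 ⟨h1, h⟩)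
  · exact NoMul.of_one hp (S2103.result h5)

theorem noMul_e6 {F : Type v} [Field F] [Fintype F] (h : ¬ p ∣ Nat.gcd 3 (Fintype.card F - 1)) :
    NoMul.{u} p ↥(Lie.chevE6.group F) :=
  NoMul.of_cyclic (S2105.result rfl) h

theorem noMul_e6_of_ne (hp : p.Prime) (hp3 : p ≠ 3) {F : Type v} [Field F] [Fintype F] :
    NoMul.{u} p ↥(Lie.chevE6.group F) :=
  noMul_e6 fun h => not_dvd_prime hp Nat.prime_three hp3 (h.trans (Nat.gcd_dvd_left _ _))

theorem noMul_e6_own (hp : p.Prime) {F : Type v} [Field F] [Fintype F] (h : p ∣ Fintype.card F) :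
    NoMul.{u} p ↥(Lie.chevE6.group F) :=
  noMul_e6 fun h1 => not_dvd_sub_one hp Fintype.card_pos h (h1.trans (Nat.gcd_dvd_right _ _))

theorem noMul_e7 {F : Type v} [Field F] [Fintype F] (h : ¬ p ∣ Nat.gcd 2 (Fintype.card F - 1)) :
    NoMul.{u} p ↥(Lie.chevE7.group F) :=
  NoMul.of_cyclic (S2106.result rfl) h

theorem noMul_e7_of_ne (hp : p.Prime) (hp2 : p ≠ 2) {F : Type v} [Field F] [Fintype F] :
    NoMul.{u} p ↥(Lie.chevE7.group F) :=
  noMul_e7 fun h => not_dvd_prime hp Nat.prime_two hp2 (h.trans (Nat.gcd_dvd_left _ _))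

theorem noMul_e7_own (hp : p.Prime) {F : Type v} [Field F] [Fintype F] (h : p ∣ Fintype.card F) :
    NoMul.{u} p ↥(Lie.chevE7.group F) :=
  noMul_e7 fun h1 => not_dvd_sub_one hp Fintype.card_pos h (h1.trans (Nat.gcd_dvd_right _ _))

theorem noMul_e8 (hp : p.Prime) {F : Type v} [Field F] [Fintype F] : NoMul.{u} p ↥(Lie.chevE8.group F) :=
  NoMul.of_one hp S2107.result

theorem noMul_te6 (hp : p.Prime) {K : Type v} [Field K] [Fintype K] {q : ℕ} (hq : IsPrimePow q)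
    (hK : Fintype.card K = q ^ 2) (h : ¬ p ∣ Nat.gcd 3 (q + 1)) (h2 : ¬ (p = 2 ∧ q = 2)) :
    NoMul.{u} p ↥(Lie.twistedE6 K q) := by
  by_cases hq2 : q = 2
  · subst hq2
    refine NoMul.of_mult (S2109.result (by rw [hK]; norm_num)) ?_
    have h1 : Nat.card (Multiplicative (ZMod 3 × ZMod 2 × ZMod 2)) = 3 * 2 ^ 2 := by simp
    rw [h1]
    exact not_dvd_mul hp h (not_dvd_prime_pow hp Nat.prime_two (fun h3 => h2 ⟨h3, rfl⟩) 2)
  · exact NoMul.of_cyclic (S2108.result hq hK hq2) h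

theorem noMul_te6_own (hp : p.Prime) {K : Type v} [Field K] [Fintype K] {q : ℕ} (hq : IsPrimePow q)
    (hK : Fintype.card K = q ^ 2) (h : p ∣ q) (h2 : q ≠ 2) :
    NoMul.{u} p ↥(Lie.twistedE6 K q) :=
  noMul_te6 hp hq hK (fun h1 => not_dvd_add_one hp h (h1.trans (Nat.gcd_dvd_right _ _))) fun h3 => h2 h3.2

theorem noMul_td4 (hp : p.Prime) {K : Type v} [Field K] [Fintype K] {q : ℕ} (hq : IsPrimePow q)
    (hK : Fintype.card K = q ^ 3) : NoMul.{u} p ↥(Lie.twistedD4 K q) :=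
  NoMul.of_one hp (S2110.result hq hK)

theorem noMul_sz (hp : p.Prime) {F : Type v} [Field F] [Fintype F] {m : ℕ} (hm : 1 ≤ m)
    (hF : Fintype.card F = 2 ^ (2 * m + 1)) (h8 : ¬ (p = 2 ∧ m = 1)) :
    NoMul.{u} p ↥(Lie.Sz F (2 ^ (m + 1))) := by
  rcases Nat.lt_or_ge m 2 with h | h
  · obtain rfl : m = 1 := by omega
    have hA := S2112.result (F := F) (by rw [hF]; norm_num)
    have h4 : (2 : ℕ) ^ (1 + 1) = 4 := by norm_num
    refine NoMul.of_mult (by rw [h4]; exact hA) ?_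
    have h1 : Nat.card (Multiplicative (ZMod 2 × ZMod 2)) = 2 ^ 2 := by simp
    rw [h1]
    exact not_dvd_prime_pow hp Nat.prime_two (fun h3 => h8 ⟨h3, rfl⟩) 2
  · exact NoMul.of_one hp (S2111.result h hF)

theorem noMul_ree (hp : p.Prime) {K : Type v} [Field K] [Fintype K] {m : ℕ} (hm : 1 ≤ m)
    (hK : Fintype.card K = 3 ^ (2 * m + 1)) : NoMul.{u} p ↥(Lie.twistedG2 K (3 ^ m)) :=
  NoMul.of_one hp (S2113.result hm hK)

theorem noMul_tf4 (hp : p.Prime) {K : Type v} [Field K] [Fintype K] {m : ℕ} (hm : 1 ≤ m)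
    (hK : Fintype.card K = 2 ^ (2 * m + 1)) : NoMul.{u} p ↥(Lie.twistedF4 K (2 ^ m)) :=
  NoMul.of_one hp (S2114.result hm hK)

theorem noMul_tits (hp : p.Prime) : NoMul.{u} p Lie.TitsGroup := by
  refine NoMul.of_cyclic (n := 1) ?_ fun h1 => hp.one_lt.ne' (Nat.dvd_one.1 h1)
  exact S2115.result

theorem noMul_isoTits (hp : p.Prime) {S : Type v} [Group S] (h : Lie.IsoTits S) : NoMul.{u} p S := by
  refine noMul_equiv (X := Lie.TitsGroup) (n := 1) ?_ ?_ fun h1 => hp.one_lt.ne' (Nat.dvd_one.1 h1)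
  · exact h
  · exact S2115.result

/-- Primes `≥ 5`. -/
theorem noMul_exc (hp : p.Prime) (hp2 : p ≠ 2) (hp3 : p ≠ 3) {S : Type v} [Group S]
    (h : IsExceptionalLieType S) : NoMul.{u} p S := by
  rcases h with h | h | h | h | h | h | h | h | h | h | h
  · obtain ⟨F, _, _, h1, ⟨e⟩⟩ := h
    exact (noMul_g2 hp h1 (fun h => hp3 h.1) (fun h => hp2 h.1)).congr e
  · obtain ⟨F, _, _, ⟨e⟩⟩ := h
    exact (noMul_f4 hp (fun h => hp2 h.1)).congr e
  · obtain ⟨F, _, _, ⟨e⟩⟩ := h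
    exact (noMul_e6_of_ne hp hp3).congr e
  · obtain ⟨F, _, _, ⟨e⟩⟩ := h
    exact (noMul_e7_of_ne hp hp2).congr e
  · obtain ⟨F, _, _, ⟨e⟩⟩ := h
    exact (noMul_e8 hp).congr e
  · obtain ⟨K, _, _, q, hq, hK, ⟨e⟩⟩ := h
    exact (noMul_te6 hp hq hK (fun h => not_dvd_prime hp Nat.prime_three hp3 (h.trans (Nat.gcd_dvd_left _ _)))
      fun h => hp2 h.1).congr e
  · obtain ⟨K, _, _, q, hq, hK, ⟨e⟩⟩ := h
    exact (noMul_td4 hp hq hK).congr e
  · obtain ⟨F, _, _, m, hm, hF, ⟨e⟩⟩ := h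
    exact (noMul_sz hp hm hF (fun h => hp2 h.1)).congr e
  · obtain ⟨K, _, _, m, hm, hK, ⟨e⟩⟩ := h
    exact (noMul_ree hp hm hK).congr e
  · obtain ⟨K, _, _, m, hm, hK, ⟨e⟩⟩ := h
    exact (noMul_tf4 hp hm hK).congr e
  · exact noMul_isoTits hp h

end Cfsg.Agent.H315.Cov
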