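import Cfsg.Agent.H315.Cov.Lin
import Cfsg.Agent.S2094
import Cfsg.Agent.S2095
import Cfsg.Agent.S2096
import Cfsg.Agent.S2097
import Cfsg.Agent.S2098
import Cfsg.Agent.S2099

/-!
# Multipliers without `p`-part: orthogonal groups
-/

set_option autoImplicit false

universe u v w

namespace Cfsg.Agent.H315.Cov

open Cfsg

variable {p : ℕ}

/-- `Ω_2m+1(q)`, `q` odd: the multiplier has order `2`, with the exception `Ω_7(3)` (order `6`). -/
theorem noMul_omegaOdd (hp : p.Prime) (hp2 : p ≠ 2) {F : Type v} [Field F] [Fintype F] (m : ℕ) (hm : 3 ≤ m)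
    (ho : Odd (Fintype.card F)) (he3 : ¬ (p = 3 ∧ m = 3 ∧ Fintype.card F = 3)) :
    NoMul.{u} p (POmega F (quadFormOdd m F)) := by
  by_cases hexc : m = 3 ∧ Fintype.card F = 3
  · obtain ⟨rfl, hq⟩ := hexc
    refine NoMul.of_cyclic (S2095.result hq) ?_
    refine not_dvd_mul (a := 2) (b := 3) hp (not_dvd_prime hp Nat.prime_two hp2)
      (not_dvd_prime hp Nat.prime_three ?_)
    rintro rfl
    exact he3 ⟨rfl, rfl, hq⟩
  · exact NoMul.of_cyclic (S2094.result rfl ho m hm hexc) (not_dvd_prime hp Nat.prime_two hp2)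

/-- `PΩ^+_2m(q)`: the multiplier is a `2`-group, trivial for `q` even, `(m, q) ≠ (4, 2)`. -/
theorem noMul_omegaPlus (hp : p.Prime) {F : Type v} [Field F] [Fintype F] (m : ℕ) (hm : 4 ≤ m)
    (hd : p = 2 → Even (Fintype.card F) ∧ ¬ (m = 4 ∧ Fintype.card F = 2)) :
    NoMul.{u} p (POmega F (quadFormPlus m F)) := by
  have key : ∀ a : ℕ, a = 2 ∨ a = 4 → ¬ p ∣ Nat.gcd a (Fintype.card F ^ m - 1) := by
    intro a ha h
    have h3 : p = 2 := by
      have h4 : p ∣ 2 ^ 2 := (h.trans (Nat.gcd_dvd_left _ _)).trans (by rcases ha with rfl | rfl <;> norm_num)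
      exact (Nat.prime_dvd_prime_iff_eq hp Nat.prime_two).1 (hp.dvd_of_dvd_pow h4)
    subst h3
    have h5 : 2 ∣ Fintype.card F ^ m := (hd rfl).1.two_dvd.trans (dvd_pow_self _ (by omega))
    exact not_dvd_sub_one hp (Nat.one_le_pow _ _ Fintype.card_pos) h5 (h.trans (Nat.gcd_dvd_right _ _))
  rcases Nat.even_or_odd m with he | ho
  · by_cases hexc : m = 4 ∧ Fintype.card F = 2
    · obtain ⟨rfl, hq⟩ := hexc
      refine NoMul.of_mult (S2098.result hq) ?_
      have h1 : Nat.card (Multiplicative (ZMod 2 × ZMod 2)) = 2 ^ 2 := by simp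
      rw [h1]
      refine not_dvd_prime_pow hp Nat.prime_two ?_ 2
      rintro rfl
      exact (hd rfl).2 ⟨rfl, hq⟩
    · refine NoMul.of_mult (S2097.result rfl m hm he hexc) ?_
      rw [Nat.card_congr Multiplicative.toAdd, Nat.card_prod, Nat.card_zmod]
      exact not_dvd_mul hp (key 2 (Or.inl rfl)) (key 2 (Or.inl rfl))
  · exact NoMul.of_cyclic (S2096.result rfl m (by rcases ho with ⟨k, hk⟩; omega) ho) (key 4 (Or.inr rfl))

theorem noMul_omegaPlus_odd (hp : p.Prime) (hp2 : p ≠ 2) {F : Type v} [Field F] [Fintype F] (m : ℕ)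
    (hm : 4 ≤ m) : NoMul.{u} p (POmega F (quadFormPlus m F)) :=
  noMul_omegaPlus hp m hm fun h => absurd h hp2

/-- `PΩ^-_2m(q)`: the multiplier is a `2`-group, trivial for `q` even. -/
theorem noMul_omegaMinus (hp : p.Prime) {F : Type v} [Field F] [Fintype F] (m : ℕ) (hm : 4 ≤ m)
    (a b : F) (hab : ∀ z₁ z₂ : F, z₁ ^ 2 + a * z₁ * z₂ + b * z₂ ^ 2 = 0 → z₁ = 0 ∧ z₂ = 0)
    (hd : p = 2 → Even (Fintype.card F)) :
    NoMul.{u} p (POmega F (quadFormMinus (m - 1) F a b)) := by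
  refine NoMul.of_cyclic (S2099.result rfl m hm a b hab) fun h => ?_
  have h3 : p = 2 := by
    have h4 : p ∣ 2 ^ 2 := h.trans (Nat.gcd_dvd_left _ _)
    exact (Nat.prime_dvd_prime_iff_eq hp Nat.prime_two).1 (hp.dvd_of_dvd_pow h4)
  subst h3
  have h5 : 2 ∣ Fintype.card F ^ m := (hd rfl).two_dvd.trans (dvd_pow_self _ (by omega))
  exact not_dvd_add_one hp h5 (h.trans (Nat.gcd_dvd_right _ _))

theorem noMul_omegaMinus_odd (hp : p.Prime) (hp2 : p ≠ 2) {F : Type v} [Field F] [Fintype F] (m : ℕ)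
    (hm : 4 ≤ m) (a b : F) (hab : ∀ z₁ z₂ : F, z₁ ^ 2 + a * z₁ * z₂ + b * z₂ ^ 2 = 0 → z₁ = 0 ∧ z₂ = 0) :
    NoMul.{u} p (POmega F (quadFormMinus (m - 1) F a b)) :=
  noMul_omegaMinus hp m hm a b hab fun h => absurd h hp2

end Cfsg.Agent.H315.Cov
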