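import Cfsg.Agent.H315.Cov.Base
import Cfsg.Agent.S2034
import Cfsg.Agent.S2035
import Cfsg.Agent.S2036
import Cfsg.Agent.S2037
import Cfsg.Agent.S2038
import Cfsg.Agent.S2039
import Cfsg.Agent.S2040
import Cfsg.Agent.S2041
import Cfsg.Agent.S2042
import Cfsg.Agent.S2043
import Cfsg.Agent.S2044
import Cfsg.Agent.S2045
import Cfsg.Agent.S2046
import Cfsg.Agent.S2047
import Cfsg.Agent.S2048
import Cfsg.Agent.S2049
import Cfsg.Agent.S2050
import Cfsg.Agent.S2051
import Cfsg.Agent.S2052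
import Cfsg.Agent.S2053
import Cfsg.Agent.S2054
import Cfsg.Agent.S2055
import Cfsg.Agent.S2056
import Cfsg.Agent.S2057
import Cfsg.Agent.S2058
import Cfsg.Agent.S2059
import Cfsg.Prelude.Def_Classification2

/-!
# Multipliers without `p`-part: sporadic groups

* `SporTwo S` : the sporadic groups with a multiplier of even order;
* `SporThree S` : the sporadic groups with a multiplier of order divisible by `3`;
* `noMul_spor` : `NoMul p S` for the sporadic groups `S`, if `p = 2 → ¬ SporTwo S`, `p = 3 → ¬ SporThree S`.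
-/

set_option autoImplicit false

universe u v w

namespace Cfsg.Agent.H315.Cov

open Cfsg

variable {p : ℕ}

/-- The sporadic groups with a multiplier of even order. -/
def SporTwo (S : Type v) [Group S] : Prop :=
  Spor.IsoM12 S ∨ Spor.IsoM22 S ∨ Spor.IsoJ2 S ∨ Spor.IsoCo1 S ∨ Spor.IsoHS S ∨ Spor.IsoSuz S ∨ Spor.IsoRu S
    ∨ Spor.IsoFi22 S ∨ Spor.IsoB S

/-- The sporadic groups with a multiplier of order divisible by `3`. -/
def SporThree (S : Type v) [Group S] : Prop :=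
  Spor.IsoM22 S ∨ Spor.IsoJ3 S ∨ Spor.IsoMcL S ∨ Spor.IsoSuz S ∨ Spor.IsoON S ∨ Spor.IsoFi22 S ∨ Spor.IsoFi24' S

theorem not_dvd_of_fac (hp : p.Prime) {n a b : ℕ} (hn : n ∣ 2 ^ a * 3 ^ b) (h2 : a = 0 ∨ p ≠ 2)
    (h3 : b = 0 ∨ p ≠ 3) : ¬ p ∣ n := by
  intro h
  rcases hp.dvd_mul.1 (h.trans hn) with h4 | h4
  · rcases h2 with rfl | h2
    · exact hp.one_lt.ne' (Nat.dvd_one.1 h4)
    · exact h2 ((Nat.prime_dvd_prime_iff_eq hp Nat.prime_two).1 (hp.dvd_of_dvd_pow h4))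
  · rcases h3 with rfl | h3
    · exact hp.one_lt.ne' (Nat.dvd_one.1 h4)
    · exact h3 ((Nat.prime_dvd_prime_iff_eq hp Nat.prime_three).1 (hp.dvd_of_dvd_pow h4))

variable {S : Type v} [Group S]

theorem noMul_spor_a (hp : p.Prime) (h : Spor.IsoM11 S ∨ Spor.IsoM12 S ∨ Spor.IsoM22 S ∨ Spor.IsoM23 S
    ∨ Spor.IsoM24 S ∨ Spor.IsoJ1 S ∨ Spor.IsoJ2 S ∨ Spor.IsoJ3 S ∨ Spor.IsoJ4 S)
    (h2 : p = 2 → ¬ SporTwo S) (h3 : p = 3 → ¬ SporThree S) : NoMul.{u} p S := by
  simp only [SporTwo, SporThree, not_or] at h2 h3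
  rcases h with h | h | h | h | h | h | h | h | h
  · exact noMul_equiv h S2034.result (not_dvd_of_fac hp (a := 0) (b := 0) (by norm_num) (Or.inl rfl) (Or.inl rfl))
  · exact noMul_equiv h S2035.result (not_dvd_of_fac hp (a := 1) (b := 0) (by norm_num)
      (Or.inr fun hp2 => (h2 hp2).1 h) (Or.inl rfl))
  · exact noMul_equiv h S2036.result (not_dvd_of_fac hp (a := 2) (b := 1) (by norm_num)
      (Or.inr fun hp2 => (h2 hp2).2.1 h) (Or.inr fun hp3 => (h3 hp3).1 h))
  · exact noMul_equiv h S2037.result (not_dvd_of_fac hp (a := 0) (b := 0) (by norm_num) (Or.inl rfl) (Or.inl rfl))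
  · exact noMul_equiv h S2038.result (not_dvd_of_fac hp (a := 0) (b := 0) (by norm_num) (Or.inl rfl) (Or.inl rfl))
  · exact noMul_equiv h S2039.result (not_dvd_of_fac hp (a := 0) (b := 0) (by norm_num) (Or.inl rfl) (Or.inl rfl))
  · exact noMul_equiv h S2040.result (not_dvd_of_fac hp (a := 1) (b := 0) (by norm_num)
      (Or.inr fun hp2 => (h2 hp2).2.2.1 h) (Or.inl rfl))
  · obtain ⟨F, i1, i2, ω, hF, hω, e⟩ := id h
    exact noMul_equiv e (S2041.result hF ω hω) (not_dvd_of_fac hp (a := 0) (b := 1) (by norm_num) (Or.inl rfl)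
      (Or.inr fun hp3 => (h3 hp3).2.1 h))
  · exact noMul_equiv h S2042.result (not_dvd_of_fac hp (a := 0) (b := 0) (by norm_num) (Or.inl rfl) (Or.inl rfl))

theorem noMul_spor_b (hp : p.Prime) (h : Spor.IsoCo1 S ∨ Spor.IsoCo2 S ∨ Spor.IsoCo3 S ∨ Spor.IsoMcL S
    ∨ Spor.IsoHS S ∨ Spor.IsoSuz S ∨ Spor.IsoHe S ∨ Spor.IsoRu S ∨ Spor.IsoON S ∨ Spor.IsoLy S)
    (h2 : p = 2 → ¬ SporTwo S) (h3 : p = 3 → ¬ SporThree S) : NoMul.{u} p S := by
  simp only [SporTwo, SporThree, not_or] at h2 h3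
  rcases h with h | h | h | h | h | h | h | h | h | h
  · exact noMul_equiv h S2043.result (not_dvd_of_fac hp (a := 1) (b := 0) (by norm_num)
      (Or.inr fun hp2 => (h2 hp2).2.2.2.1 h) (Or.inl rfl))
  · exact noMul_equiv h S2044.result (not_dvd_of_fac hp (a := 0) (b := 0) (by norm_num) (Or.inl rfl) (Or.inl rfl))
  · exact noMul_equiv h S2045.result (not_dvd_of_fac hp (a := 0) (b := 0) (by norm_num) (Or.inl rfl) (Or.inl rfl))
  · exact noMul_equiv h S2047.result (not_dvd_of_fac hp (a := 0) (b := 1) (by norm_num) (Or.inl rfl)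
      (Or.inr fun hp3 => (h3 hp3).2.2.1 h))
  · exact noMul_equiv h S2046.result (not_dvd_of_fac hp (a := 1) (b := 0) (by norm_num)
      (Or.inr fun hp2 => (h2 hp2).2.2.2.2.1 h) (Or.inl rfl))
  · exact noMul_equiv h S2048.result (not_dvd_of_fac hp (a := 1) (b := 1) (by norm_num)
      (Or.inr fun hp2 => (h2 hp2).2.2.2.2.2.1 h) (Or.inr fun hp3 => (h3 hp3).2.2.2.1 h))
  · exact noMul_equiv h S2049.result (not_dvd_of_fac hp (a := 0) (b := 0) (by norm_num) (Or.inl rfl) (Or.inl rfl))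
  · exact noMul_equiv h S2051.result (not_dvd_of_fac hp (a := 1) (b := 0) (by norm_num)
      (Or.inr fun hp2 => (h2 hp2).2.2.2.2.2.2.1 h) (Or.inl rfl))
  · exact noMul_equiv h S2052.result (not_dvd_of_fac hp (a := 0) (b := 1) (by norm_num) (Or.inl rfl)
      (Or.inr fun hp3 => (h3 hp3).2.2.2.2.1 h))
  · exact noMul_equiv h S2050.result (not_dvd_of_fac hp (a := 0) (b := 0) (by norm_num) (Or.inl rfl) (Or.inl rfl))

theorem noMul_spor_c (hp : p.Prime) (h : Spor.IsoFi22 S ∨ Spor.IsoFi23 S ∨ Spor.IsoFi24' S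
    ∨ Spor.IsoHN S ∨ Spor.IsoTh S ∨ Spor.IsoB S ∨ Spor.IsoM S)
    (h2 : p = 2 → ¬ SporTwo S) (h3 : p = 3 → ¬ SporThree S) : NoMul.{u} p S := by
  simp only [SporTwo, SporThree, not_or] at h2 h3
  rcases h with h | h | h | h | h | h | h
  · exact noMul_equiv h S2053.result (not_dvd_of_fac hp (a := 1) (b := 1) (by norm_num)
      (Or.inr fun hp2 => (h2 hp2).2.2.2.2.2.2.2.1 h) (Or.inr fun hp3 => (h3 hp3).2.2.2.2.2.1 h))
  · exact noMul_equiv h S2054.result (not_dvd_of_fac hp (a := 0) (b := 0) (by norm_num) (Or.inl rfl) (Or.inl rfl))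
  · exact noMul_equiv h S2055.result (not_dvd_of_fac hp (a := 0) (b := 1) (by norm_num) (Or.inl rfl)
      (Or.inr fun hp3 => (h3 hp3).2.2.2.2.2.2 h))
  · exact noMul_equiv h S2056.result (not_dvd_of_fac hp (a := 0) (b := 0) (by norm_num) (Or.inl rfl) (Or.inl rfl))
  · exact noMul_equiv h S2057.result (not_dvd_of_fac hp (a := 0) (b := 0) (by norm_num) (Or.inl rfl) (Or.inl rfl))
  · exact noMul_equiv h S2058.result (not_dvd_of_fac hp (a := 1) (b := 0) (by norm_num)
      (Or.inr fun hp2 => (h2 hp2).2.2.2.2.2.2.2.2 h) (Or.inl rfl))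
  · exact noMul_equiv h S2059.result (not_dvd_of_fac hp (a := 0) (b := 0) (by norm_num) (Or.inl rfl) (Or.inl rfl))

/-- **The sporadic groups.** -/
theorem noMul_spor (hp : p.Prime) (h : IsSporadicGroup S) (h2 : p = 2 → ¬ SporTwo S)
    (h3 : p = 3 → ¬ SporThree S) : NoMul.{u} p S := by
  rcases h with h | h | h | h | h | h | h | h | h | h | h | h | h | h | h | h | h | h | h | h | h | h | h | h | h | h
  · exact noMul_spor_a hp (by simp [h]) h2 h3
  · exact noMul_spor_a hp (by simp [h]) h2 h3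
  · exact noMul_spor_a hp (by simp [h]) h2 h3
  · exact noMul_spor_a hp (by simp [h]) h2 h3
  · exact noMul_spor_a hp (by simp [h]) h2 h3
  · exact noMul_spor_a hp (by simp [h]) h2 h3
  · exact noMul_spor_a hp (by simp [h]) h2 h3
  · exact noMul_spor_a hp (by simp [h]) h2 h3
  · exact noMul_spor_a hp (by simp [h]) h2 h3
  · exact noMul_spor_b hp (by simp [h]) h2 h3
  · exact noMul_spor_b hp (by simp [h]) h2 h3
  · exact noMul_spor_b hp (by simp [h]) h2 h3
  · exact noMul_spor_b hp (by simp [h]) h2 h3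
  · exact noMul_spor_b hp (by simp [h]) h2 h3
  · exact noMul_spor_b hp (by simp [h]) h2 h3
  · exact noMul_spor_b hp (by simp [h]) h2 h3
  · exact noMul_spor_b hp (by simp [h]) h2 h3
  · exact noMul_spor_b hp (by simp [h]) h2 h3
  · exact noMul_spor_b hp (by simp [h]) h2 h3
  · exact noMul_spor_c hp (by simp [h]) h2 h3
  · exact noMul_spor_c hp (by simp [h]) h2 h3
  · exact noMul_spor_c hp (by simp [h]) h2 h3
  · exact noMul_spor_c hp (by simp [h]) h2 h3
  · exact noMul_spor_c hp (by simp [h]) h2 h3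
  · exact noMul_spor_c hp (by simp [h]) h2 h3
  · exact noMul_spor_c hp (by simp [h]) h2 h3

end Cfsg.Agent.H315.Cov
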