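import Cfsg.Agent.H315.Cov.Uni
import Cfsg.Agent.H315.Cov.Orth
import Cfsg.Agent.H315.Cov.Exc
import Cfsg.Agent.H315.Cov.Spor

/-!
# The simple groups whose multiplier has a `p`-part

* `MulCase p S` : the list of the pairs;
* `noMul_or` : `NoMul p S ∨ MulCase p S` for all known nonabelian simple groups.
-/

set_option autoImplicit false

universe u v w

namespace Cfsg.Agent.H315.Cov

open Cfsg

/-- The simple groups whose multiplier has a `p`-part. -/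
inductive MulCase (p : ℕ) (S : Type v) [Group S] : Prop
  | alt_two (n : ℕ) (hn : 5 ≤ n) (e : Nonempty (S ≃* alternatingGroup (Fin n))) (hp : p = 2)
  | alt_three (n : ℕ) (hn : n = 6 ∨ n = 7) (e : Nonempty (S ≃* alternatingGroup (Fin n))) (hp : p = 3)
  | psl (F : Type) (_ : Field F) (_ : Fintype F) (n : ℕ) (hn : 2 ≤ n) (h2 : n = 2 → 4 ≤ Fintype.card F)
      (e : Nonempty (S ≃* Matrix.ProjectiveSpecialLinearGroup (Fin n) F))
      (hp : p ∣ Nat.gcd n (Fintype.card F - 1))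
  | psl_two (F : Type) (_ : Field F) (_ : Fintype F) (n : ℕ)
      (e : Nonempty (S ≃* Matrix.ProjectiveSpecialLinearGroup (Fin n) F))
      (hn : (n, Fintype.card F) ∈ ({(2, 4), (3, 2), (3, 4), (4, 2)} : Set (ℕ × ℕ))) (hp : p = 2)
  | psl_nine (F : Type) (_ : Field F) (_ : Fintype F) (hF : Fintype.card F = 9)
      (e : Nonempty (S ≃* Matrix.ProjectiveSpecialLinearGroup (Fin 2) F)) (hp : p = 3)
  | psp (F : Type) (_ : Field F) (_ : Fintype F) (m : ℕ) (hm : 2 ≤ m) (h2 : m = 2 → 3 ≤ Fintype.card F)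
      (e : Nonempty (S ≃* PSp m F)) (ho : Odd (Fintype.card F) ∨ (m = 3 ∧ Fintype.card F = 2)) (hp : p = 2)
  | psu (F : Type) (_ : Field F) (_ : Fintype F) (n q : ℕ) (hF : Fintype.card F = q ^ 2) (hn : 3 ≤ n)
      (h32 : ¬ (n = 3 ∧ q = 2)) (e : Nonempty (S ≃* PSU n F q)) (hp : p ∣ Nat.gcd n (q + 1))
  | psu_two (F : Type) (_ : Field F) (_ : Fintype F) (n : ℕ) (hF : Fintype.card F = 4) (hn : n = 4 ∨ n = 6)
      (e : Nonempty (S ≃* PSU n F 2)) (hp : p = 2)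
  | psu_three (F : Type) (_ : Field F) (_ : Fintype F) (hF : Fintype.card F = 9)
      (e : Nonempty (S ≃* PSU 4 F 3)) (hp : p = 3)
  | omegaOdd (F : Type) (_ : Field F) (_ : Fintype F) (m : ℕ) (hm : 3 ≤ m) (ho : Odd (Fintype.card F))
      (e : Nonempty (S ≃* POmega F (quadFormOdd m F))) (hp : p = 2)
  | omegaSeven (F : Type) (_ : Field F) (_ : Fintype F) (hF : Fintype.card F = 3)
      (e : Nonempty (S ≃* POmega F (quadFormOdd 3 F))) (hp : p = 3)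
  | omegaPlus (F : Type) (_ : Field F) (_ : Fintype F) (m : ℕ) (hm : 4 ≤ m)
      (ho : Odd (Fintype.card F) ∨ (m = 4 ∧ Fintype.card F = 2))
      (e : Nonempty (S ≃* POmega F (quadFormPlus m F))) (hp : p = 2)
  | omegaMinus (F : Type) (_ : Field F) (_ : Fintype F) (m : ℕ) (hm : 4 ≤ m) (a b : F)
      (hab : ∀ z₁ z₂ : F, z₁ ^ 2 + a * z₁ * z₂ + b * z₂ ^ 2 = 0 → z₁ = 0 ∧ z₂ = 0)
      (ho : Odd (Fintype.card F)) (e : Nonempty (S ≃* POmega F (quadFormMinus (m - 1) F a b))) (hp : p = 2)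
  | g2 (F : Type) (_ : Field F) (_ : Fintype F) (hF : (p = 3 ∧ Fintype.card F = 3) ∨ (p = 2 ∧ Fintype.card F = 4))
      (e : Nonempty (S ≃* ↥(Lie.chevG2.group F)))
  | f4 (F : Type) (_ : Field F) (_ : Fintype F) (hF : Fintype.card F = 2)
      (e : Nonempty (S ≃* ↥(Lie.chevF4.group F))) (hp : p = 2)
  | e6 (F : Type) (_ : Field F) (_ : Fintype F) (h3 : 3 ∣ Fintype.card F - 1)
      (e : Nonempty (S ≃* ↥(Lie.chevE6.group F))) (hp : p = 3)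
  | e7 (F : Type) (_ : Field F) (_ : Fintype F) (ho : Odd (Fintype.card F))
      (e : Nonempty (S ≃* ↥(Lie.chevE7.group F))) (hp : p = 2)
  | te6 (K : Type) (_ : Field K) (_ : Fintype K) (q : ℕ) (hq : IsPrimePow q) (hK : Fintype.card K = q ^ 2)
      (h3 : (p = 3 ∧ 3 ∣ q + 1) ∨ (p = 2 ∧ q = 2)) (e : Nonempty (S ≃* ↥(Lie.twistedE6 K q)))
  | sz (F : Type) (_ : Field F) (_ : Fintype F) (hF : Fintype.card F = 8)
      (e : Nonempty (S ≃* ↥(Lie.Sz F 4))) (hp : p = 2)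
  | spor_two (h : SporTwo S) (hp : p = 2)
  | spor_three (h : SporThree S) (hp : p = 3)

variable {p : ℕ} {S : Type v} [Group S]

theorem nm_alt (hp : p.Prime) (h : IsAlternating S) : NoMul.{u} p S ∨ MulCase p S := by
  obtain ⟨n, hn, ⟨e⟩⟩ := h
  by_cases h2 : p = 2
  · exact Or.inr (.alt_two n hn ⟨e⟩ h2)
  by_cases h3 : p = 3 ∧ (n = 6 ∨ n = 7)
  · exact Or.inr (.alt_three n h3.2 ⟨e⟩ h3.1)
  exact Or.inl ((noMul_alt hp h2 n (by omega) h3).congr e)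

theorem nm_psl (hp : p.Prime) (h : IsPSL S) : NoMul.{u} p S ∨ MulCase p S := by
  obtain ⟨F, i1, i2, n, hn, hn2, ⟨e⟩⟩ := h
  by_cases hd : p ∣ Nat.gcd n (Fintype.card F - 1)
  · exact Or.inr (.psl F i1 i2 n hn hn2 ⟨e⟩ hd)
  by_cases h2 : p = 2 ∧ (n, Fintype.card F) ∈ ({(2, 4), (3, 2), (3, 4), (4, 2)} : Set (ℕ × ℕ))
  · exact Or.inr (.psl_two F i1 i2 n ⟨e⟩ h2.2 h2.1)
  by_cases h3 : p = 3 ∧ n = 2 ∧ Fintype.card F = 9
  · obtain ⟨h3, rfl, h9⟩ := h3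
    exact Or.inr (.psl_nine F i1 i2 h9 ⟨e⟩ h3)
  exact Or.inl ((noMul_psl hp n hn hn2 hd (fun h4 h5 => h2 ⟨h4, h5⟩) h3).congr e)

theorem nm_psp (hp : p.Prime) (h : IsPSp S) : NoMul.{u} p S ∨ MulCase p S := by
  obtain ⟨F, i1, i2, m, hm, hm2, ⟨e⟩⟩ := h
  by_cases h2 : p = 2 ∧ (Odd (Fintype.card F) ∨ (m = 3 ∧ Fintype.card F = 2))
  · exact Or.inr (.psp F i1 i2 m hm hm2 ⟨e⟩ h2.2 h2.1)
  refine Or.inl ((noMul_psp hp m hm hm2 fun h3 => ?_).congr e)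
  have h4 := not_or.1 fun h5 => h2 ⟨h3, h5⟩
  exact ⟨Nat.not_odd_iff_even.1 h4.1, h4.2⟩

theorem nm_psu (hp : p.Prime) (h : IsPSU S) : NoMul.{u} p S ∨ MulCase p S := by
  obtain ⟨F, i1, i2, n, q, hF, hn, h32, ⟨e⟩⟩ := h
  by_cases hd : p ∣ Nat.gcd n (q + 1)
  · exact Or.inr (.psu F i1 i2 n q hF hn h32 ⟨e⟩ hd)
  by_cases h2 : p = 2 ∧ (n, q) ∈ ({(4, 2), (6, 2)} : Set (ℕ × ℕ))
  · obtain ⟨h2, h4⟩ := h2
    simp only [Set.mem_insert_iff, Set.mem_singleton_iff, Prod.mk.injEq] at h4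
    rcases h4 with ⟨rfl, rfl⟩ | ⟨rfl, rfl⟩
    · exact Or.inr (.psu_two F i1 i2 4 (by rw [hF]; norm_num) (Or.inl rfl) ⟨e⟩ h2)
    · exact Or.inr (.psu_two F i1 i2 6 (by rw [hF]; norm_num) (Or.inr rfl) ⟨e⟩ h2)
  by_cases h3 : p = 3 ∧ n = 4 ∧ q = 3
  · obtain ⟨h3, rfl, rfl⟩ := h3
    exact Or.inr (.psu_three F i1 i2 (by rw [hF]; norm_num) ⟨e⟩ h3)
  exact Or.inl ((noMul_psu hp n q hF hn h32 hd (fun h4 h5 => h2 ⟨h4, h5⟩) h3).congr e)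

theorem nm_omegaOdd (hp : p.Prime) (h : IsPOmegaOdd S) : NoMul.{u} p S ∨ MulCase p S := by
  obtain ⟨F, i1, i2, m, hm, ho, ⟨e⟩⟩ := h
  by_cases h2 : p = 2
  · exact Or.inr (.omegaOdd F i1 i2 m hm ho ⟨e⟩ h2)
  by_cases h3 : p = 3 ∧ m = 3 ∧ Fintype.card F = 3
  · obtain ⟨h3, rfl, h4⟩ := h3
    exact Or.inr (.omegaSeven F i1 i2 h4 ⟨e⟩ h3)
  exact Or.inl ((noMul_omegaOdd hp h2 m hm ho h3).congr e)

theorem nm_omegaPlus (hp : p.Prime) (h : IsPOmegaPlus S) : NoMul.{u} p S ∨ MulCase p S := by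
  obtain ⟨F, i1, i2, m, hm, ⟨e⟩⟩ := h
  by_cases h2 : p = 2 ∧ (Odd (Fintype.card F) ∨ (m = 4 ∧ Fintype.card F = 2))
  · exact Or.inr (.omegaPlus F i1 i2 m hm h2.2 ⟨e⟩ h2.1)
  refine Or.inl ((noMul_omegaPlus hp m hm fun h3 => ?_).congr e)
  have h4 := not_or.1 fun h5 => h2 ⟨h3, h5⟩
  exact ⟨Nat.not_odd_iff_even.1 h4.1, h4.2⟩

theorem nm_omegaMinus (hp : p.Prime) (h : IsPOmegaMinus S) : NoMul.{u} p S ∨ MulCase p S := by
  obtain ⟨F, i1, i2, m, a, b, hm, hab, ⟨e⟩⟩ := h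
  by_cases h2 : p = 2 ∧ Odd (Fintype.card F)
  · exact Or.inr (.omegaMinus F i1 i2 m hm a b hab h2.2 ⟨e⟩ h2.1)
  exact Or.inl ((noMul_omegaMinus hp m hm a b hab fun h3 =>
    Nat.not_odd_iff_even.1 fun h4 => h2 ⟨h3, h4⟩).congr e)

theorem eq_three_of_dvd (hp : p.Prime) {m : ℕ} (h : p ∣ Nat.gcd 3 m) : p = 3 ∧ 3 ∣ m := by
  have h3 : p = 3 := (Nat.prime_dvd_prime_iff_eq hp Nat.prime_three).1 (h.trans (Nat.gcd_dvd_left _ _))
  subst h3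
  exact ⟨rfl, h.trans (Nat.gcd_dvd_right _ _)⟩

theorem nm_exc (hp : p.Prime) (h : IsExceptionalLieType S) : NoMul.{u} p S ∨ MulCase p S := by
  rcases h with h | h | h | h | h | h | h | h | h | h | h
  · obtain ⟨F, i1, i2, h1, ⟨e⟩⟩ := h
    by_cases h2 : (p = 3 ∧ Fintype.card F = 3) ∨ (p = 2 ∧ Fintype.card F = 4)
    · exact Or.inr (.g2 F i1 i2 h2 ⟨e⟩)
    rw [not_or] at h2
    exact Or.inl ((noMul_g2 hp h1 h2.1 h2.2).congr e)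
  · obtain ⟨F, i1, i2, ⟨e⟩⟩ := h
    by_cases h2 : p = 2 ∧ Fintype.card F = 2
    · exact Or.inr (.f4 F i1 i2 h2.2 ⟨e⟩ h2.1)
    exact Or.inl ((noMul_f4 hp h2).congr e)
  · obtain ⟨F, i1, i2, ⟨e⟩⟩ := h
    by_cases h2 : p ∣ Nat.gcd 3 (Fintype.card F - 1)
    · exact Or.inr (.e6 F i1 i2 (eq_three_of_dvd hp h2).2 ⟨e⟩ (eq_three_of_dvd hp h2).1)
    exact Or.inl ((noMul_e6 h2).congr e)
  · obtain ⟨F, i1, i2, ⟨e⟩⟩ := h
    by_cases h2 : p = 2 ∧ Odd (Fintype.card F)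
    · exact Or.inr (.e7 F i1 i2 h2.2 ⟨e⟩ h2.1)
    refine Or.inl ((noMul_e7 fun h3 => ?_).congr e)
    have h4 : p = 2 := (Nat.prime_dvd_prime_iff_eq hp Nat.prime_two).1 (h3.trans (Nat.gcd_dvd_left _ _))
    subst h4
    have h5 : Even (Fintype.card F) := Nat.not_odd_iff_even.1 fun h6 => h2 ⟨rfl, h6⟩
    exact not_dvd_sub_one hp Fintype.card_pos h5.two_dvd (h3.trans (Nat.gcd_dvd_right _ _))
  · obtain ⟨F, i1, i2, ⟨e⟩⟩ := h
    exact Or.inl ((noMul_e8 hp).congr e)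
  · obtain ⟨K, i1, i2, q, hq, hK, ⟨e⟩⟩ := h
    by_cases h2 : p = 2 ∧ q = 2
    · exact Or.inr (.te6 K i1 i2 q hq hK (Or.inr h2) ⟨e⟩)
    by_cases h3 : p ∣ Nat.gcd 3 (q + 1)
    · exact Or.inr (.te6 K i1 i2 q hq hK (Or.inl (eq_three_of_dvd hp h3)) ⟨e⟩)
    exact Or.inl ((noMul_te6 hp hq hK h3 h2).congr e)
  · obtain ⟨K, _, _, q, hq, hK, ⟨e⟩⟩ := h
    exact Or.inl ((noMul_td4 hp hq hK).congr e)
  · obtain ⟨F, i1, i2, m, hm, hF, ⟨e⟩⟩ := h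
    by_cases h2 : p = 2 ∧ m = 1
    · obtain ⟨h2, rfl⟩ := h2
      exact Or.inr (.sz F i1 i2 (by rw [hF]; norm_num) ⟨e⟩ h2)
    exact Or.inl ((noMul_sz hp hm hF h2).congr e)
  · obtain ⟨K, _, _, m, hm, hK, ⟨e⟩⟩ := h
    exact Or.inl ((noMul_ree hp hm hK).congr e)
  · obtain ⟨K, _, _, m, hm, hK, ⟨e⟩⟩ := h
    exact Or.inl ((noMul_tf4 hp hm hK).congr e)
  · exact Or.inl (noMul_isoTits hp h)

/-- **All known nonabelian simple groups.** -/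
theorem noMul_or (hp : p.Prime) (hna : ¬ IsMulCommutative S) (h : IsKnownSimple' S) :
    NoMul.{u} p S ∨ MulCase p S := by
  rcases h with h | h | h | h | h | h | h | h | h | h
  · haveI : Fact (Nat.card S).Prime := ⟨h⟩
    haveI : IsCyclic S := isCyclic_of_prime_card (p := Nat.card S) rfl
    exact absurd IsCyclic.isMulCommutative hna
  · exact nm_alt hp h
  · exact nm_psl hp h
  · exact nm_psp hp h
  · exact nm_psu hp h
  · exact nm_omegaOdd hp h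
  · exact nm_omegaPlus hp h
  · exact nm_omegaMinus hp h
  · exact nm_exc hp h
  · by_cases h2 : p = 2 ∧ SporTwo S
    · exact Or.inr (.spor_two h2.2 h2.1)
    by_cases h3 : p = 3 ∧ SporThree S
    · exact Or.inr (.spor_three h3.2 h3.1)
    exact Or.inl (noMul_spor hp h (fun h4 h5 => h2 ⟨h4, h5⟩) (fun h4 h5 => h3 ⟨h4, h5⟩))

end Cfsg.Agent.H315.Cov
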