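import Cfsg.Agent.H95.StemCover
import Cfsg.Agent.H487.SchurMult
import Cfsg.Agent.S0892
import Cfsg.Agent.S2116

/-!
# Multipliers without `p`-part (for S4932, task DL-B1c)

* `NoMul p T` : no finite stem extension of `T` (in any universe) has a kernel of order divisible by `p`;
* `NoMul.ker_eq_bot` : central extensions `Y → T`, `Y` perfect (or: stem), with a `p`-group as kernel are
  isomorphisms;
* `NoMul.of_mult`, `NoMul.of_cyclic` : from the multiplier;
* `noMul_alt` : alternating groups.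
-/

set_option autoImplicit false

universe u v w x

namespace Cfsg.Agent.H315.Cov

open Cfsg

/-- No finite stem extension of `T` has a kernel of order divisible by `p`. -/
def NoMul (p : ℕ) (T : Type w) [Group T] : Prop :=
  ∀ (Γ : Type u) [Group Γ] [Finite Γ] (σ : Γ →* T), IsStemExtension σ → ¬ p ∣ Nat.card σ.ker

variable {p : ℕ}

theorem NoMul.congr {S : Type v} [Group S] {T : Type w} [Group T] (e : S ≃* T) (h : NoMul.{u} p T) :
    NoMul.{u} p S := by
  intro Γ _ _ σ hσ hd
  have hk : (e.toMonoidHom.comp σ).ker = σ.ker := by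
    ext x
    rw [MonoidHom.mem_ker, MonoidHom.mem_ker, MonoidHom.comp_apply]
    exact map_eq_one_iff _ e.injective
  have h2 : IsStemExtension (e.toMonoidHom.comp σ) :=
    ⟨e.surjective.comp hσ.1, by rw [hk]; exact hσ.2.1, by rw [hk]; exact hσ.2.2⟩
  exact h Γ (e.toMonoidHom.comp σ) h2 (by rw [hk]; exact hd)

theorem NoMul.of_mult {T : Type w} [Group T] {A : Type x} [CommGroup A] (hA : HasSchurMultiplier T A)
    (h : ¬ p ∣ Nat.card A) : NoMul.{u} p T := by
  intro Γ _ _ σ hσ hd
  obtain ⟨f, hf⟩ := H487.HasSchurMultiplier.exists_surj_ker hA hσ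
  exact h (hd.trans (Subgroup.card_dvd_of_surjective f hf))

theorem NoMul.of_cyclic {T : Type w} [Group T] {n : ℕ} (hA : HasCyclicSchurMultiplier T n)
    (h : ¬ p ∣ n) : NoMul.{u} p T := by
  refine NoMul.of_mult hA ?_
  rwa [Nat.card_congr (Multiplicative.toAdd (α := ZMod n)), Nat.card_zmod]

theorem NoMul.of_one (hp : p.Prime) {T : Type w} [Group T] (hA : HasCyclicSchurMultiplier T 1) :
    NoMul.{u} p T :=
  NoMul.of_cyclic hA fun h1 => hp.one_lt.ne' (Nat.dvd_one.1 h1)

/-- Stem extensions with a `p`-group as kernel are injective. -/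
theorem NoMul.ker_eq_bot [hp : Fact p.Prime] {T : Type w} [Group T] (h : NoMul.{u} p T) {Γ : Type u} [Group Γ]
    [Finite Γ] {σ : Γ →* T} (hσ : IsStemExtension σ) (hk : IsPGroup p σ.ker) : σ.ker = ⊥ := by
  have h1 := h Γ σ hσ
  obtain ⟨n, hn⟩ := IsPGroup.iff_card.1 hk
  rw [hn] at h1
  rcases Nat.eq_zero_or_pos n with h0 | h0
  · rw [h0, pow_zero] at hn
    exact Subgroup.card_eq_one.1 hn
  · exact absurd (dvd_pow_self p h0.ne') h1

/-- Perfect central extensions with a `p`-group as kernel are isomorphisms. -/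
theorem NoMul.injective [hp : Fact p.Prime] {T : Type w} [Group T] (h : NoMul.{u} p T) {Y : Type u} [Group Y]
    [Finite Y] {f : Y →* T} (hs : Function.Surjective f) (hc : f.ker ≤ Subgroup.center Y)
    (hY : commutator Y = ⊤) (hk : IsPGroup p f.ker) : Function.Injective f := by
  rw [← MonoidHom.ker_eq_bot_iff]
  exact h.ker_eq_bot ⟨hs, hc, by rw [hY]; exact le_top⟩ hk

/-- Central `p`-subgroups `Z` of perfect groups `Y` with `Y ⧸ Z ≃* T` are trivial. -/
theorem NoMul.eq_bot [hp : Fact p.Prime] {T : Type w} [Group T] (h : NoMul.{u} p T) {Y : Type u} [Group Y]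
    [Finite Y] (hY : commutator Y = ⊤) {Z : Subgroup Y} [Z.Normal] (hZ : Z ≤ Subgroup.center Y)
    (hk : IsPGroup p Z) (e : Y ⧸ Z ≃* T) : Z = ⊥ := by
  have hker : (e.toMonoidHom.comp (QuotientGroup.mk' Z)).ker = Z := by
    ext x
    rw [MonoidHom.mem_ker, MonoidHom.comp_apply]
    refine (map_eq_one_iff _ e.injective).trans ?_
    exact QuotientGroup.eq_one_iff x
  have h1 := h.ker_eq_bot (σ := e.toMonoidHom.comp (QuotientGroup.mk' Z))
    ⟨e.surjective.comp (QuotientGroup.mk'_surjective Z), by rw [hker]; exact hZ,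
      by rw [hY]; exact le_top⟩ (by rw [hker]; exact hk)
  rwa [hker] at h1

theorem noMul_equiv {S : Type v} [Group S] {X : Type w} [Group X] {n : ℕ} (h : Nonempty (S ≃* X))
    (hA : HasCyclicSchurMultiplier X n) (hn : ¬ p ∣ n) : NoMul.{u} p S := by
  obtain ⟨e⟩ := h
  exact (NoMul.of_cyclic hA hn).congr e

/-! ### Alternating groups -/

theorem noMul_alt (hp : p.Prime) (h2 : p ≠ 2) (n : ℕ) (hn : 4 ≤ n) (h67 : ¬ (p = 3 ∧ (n = 6 ∨ n = 7))) :
    NoMul.{u} p (alternatingGroup (Fin n)) := by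
  by_cases h : n = 6 ∨ n = 7
  · have hA := S2116.result n h
    refine NoMul.of_cyclic hA fun h1 => ?_
    have h3 : p ≠ 3 := fun h3 => h67 ⟨h3, h⟩
    rcases (Nat.Prime.dvd_mul hp).1 (show p ∣ 2 * 3 from h1) with h4 | h4
    · exact h2 ((Nat.prime_dvd_prime_iff_eq hp Nat.prime_two).1 h4)
    · exact h3 ((Nat.prime_dvd_prime_iff_eq hp Nat.prime_three).1 h4)
  · rw [not_or] at h
    intro Γ _ _ σ hσ hd
    have h3 := S0892.result n hn h.1 h.2 σ.ker hσ.2.1 hσ.2.2 (QuotientGroup.quotientKerEquivOfSurjective σ hσ.1)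
    have h4 : 0 < Nat.card σ.ker := Nat.card_pos
    have h5 := Nat.le_of_dvd h4 hd
    have h6 := hp.two_le
    omega

end Cfsg.Agent.H315.Cov
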